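import Groth.Agent.InvUfdLib.Semilocal
import Groth.Agent.PicClLib.Basic
import Mathlib.RingTheory.Spectrum.Prime.Topology

/-!
Invertible modules on schemes finite over a local ring are trivial.
-/

set_option autoImplicit false
universe u

open CategoryTheory AlgebraicGeometry TopologicalSpace

namespace Groth.Agent.InvTriv16

open Groth.Agent.AModX Groth.Agent.InvX

theorem nonempty_iso_of_isFinite_local {R : CommRingCat.{u}} [IsLocalRing R] {Z : Scheme.{u}}
    (π : Z ⟶ Spec R) [IsFinite π] {L : Z.Modules} (hL : PicF.IsInvertible L) :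
    Nonempty (L ≅ Coh.structureModule Z) := by
  let y : Spec R := IsLocalRing.closedPoint R
  have hd : ∀ x ∈ π ⁻¹' {y}, ∀ x' ∈ π ⁻¹' {y}, x ⤳ x' → x = x' := by
    intro x hx x' hx' h
    have := (π.isDiscrete_preimage_singleton y).1
    have h' : (⟨x, hx⟩ : π ⁻¹' {y}) ⤳ ⟨x', hx'⟩ := (subtype_specializes_iff _ _).2 h
    exact congrArg Subtype.val h'.eq
  obtain ⟨O, s, hFO, hs⟩ := InvUfdLib.exists_frame_finset hL ((isAffineOpen_top _).preimage π) (π ⁻¹' {y})
    (π.finite_preimage_singleton y) (fun _ _ => trivial) hd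
  let Z' : Set (Spec R) := π '' ((O : Set Z)ᶜ)
  have hZ : IsClosed Z' := π.isClosedMap _ O.isOpen.isClosed_compl
  let V : (Spec R).Opens := ⟨Z'ᶜ, hZ.isOpen_compl⟩
  have hy : y ∈ V := by
    rintro ⟨x, hx, hxy⟩
    exact hx (hFO hxy)
  have hV : V = ⊤ := IsLocalRing.closed_point_mem_iff.1 hy
  have hle : (⊤ : Z.Opens) ≤ O := fun x _ => not_not.1 fun h =>
    (show π x ∈ V by rw [hV]; trivial) ⟨x, h, rfl⟩
  exact InvUfdLib.nonempty_iso_of_frame (hs.res hle)

end Groth.Agent.InvTriv16
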